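import Cfsg.Agent.H51.Mult
import Cfsg.Agent.H210.On7.Three

/-!
# 3.ON: the lifts of elements of order divisible by three are fused (helper253, for helper890's row of S2491, S2492)

`fixed` : in a perfect central extension of `O'N` with kernel of order 3, every element `g` whose image has order
divisible by 3 is conjugate to all the `g z`, `z` in the kernel.
-/

set_option autoImplicit false

namespace Cfsg.Agent.H253.QON

open Subgroup Cfsg
open Cfsg.Agent.H51.Mult (PCE)
open Cfsg.Agent.R04.ClosingE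
open Cfsg.Agent.R04
open scoped commutatorElement

universe u v

section gen

variable {L : Type u} {X : Type v} [Group L] [Group X] {π : L →* X}

/-- elements over commuting elements commute up to the kernel -/
theorem ker_of_comm {a b : L} (h : π a * π b = π b * π a) : π (a * b * a⁻¹ * b⁻¹) = 1 := by
  rw [map_mul, map_mul, map_mul, map_inv, map_inv, h]
  group

theorem eq_mul_of_ker {a b : L} (h : π a = π b) : ∃ z : L, π z = 1 ∧ a = b * z :=
  ⟨b⁻¹ * a, by rw [map_mul, map_inv, h, inv_mul_cancel], by group⟩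

/-- commuting does not depend on the lift -/
theorem comm_of_lift (hπ : PCE π) {a b c : L} (h : π a = π b) (hb : b * c = c * b) : a * c = c * a := by
  obtain ⟨z, hz, rfl⟩ := eq_mul_of_ker h
  rw [mul_assoc, hπ.comm hz c, ← mul_assoc, hb, mul_assoc]

/-- (a) `e` over the centralizer of a perfect subgroup `M` commutes with everything over `M` -/
theorem comm_perf (hπ : PCE π) {M : Subgroup X} (hM : ⁅M, M⁆ = M) {e : L}
    (he : ∀ m ∈ M, π e * m = m * π e) {c : L} (hc : π c ∈ M) : e * c = c * e := by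
  have h1 : ⁅M.comap π, M.comap π⁆ ≤ centralizer {e} := by
    rw [commutator_le]
    intro a ha b hb
    rw [mem_centralizer_singleton_iff]
    have h2 := ker_of_comm (π := π) (a := e) (b := a) (he _ ha)
    have h3 := ker_of_comm (π := π) (a := e) (b := b) (he _ hb)
    set z := e * a * e⁻¹ * a⁻¹ with hz
    set y := e * b * e⁻¹ * b⁻¹ with hy
    have h4 : e * a * e⁻¹ = z * a := by rw [hz]; group
    have h5 : e * b * e⁻¹ = y * b := by rw [hy]; group
    have h6 : e * ⁅a, b⁆ * e⁻¹ = ⁅a, b⁆ := by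
      have e1 : e * ⁅a, b⁆ * e⁻¹ = ⁅e * a * e⁻¹, e * b * e⁻¹⁆ := by
        simp only [commutatorElement_def]; group
      rw [e1, h4, h5]
      simp only [commutatorElement_def, mul_inv_rev]
      have c1 := hπ.comm h2
      have c2 := hπ.comm h3
      have c1' : ∀ w, z * w = w * z := c1
      have c2' : ∀ w, y * w = w * y := c2
      calc z * a * (y * b) * (a⁻¹ * z⁻¹) * (b⁻¹ * y⁻¹)
          = z * (a * y) * b * a⁻¹ * z⁻¹ * (b⁻¹ * y⁻¹) := by group
        _ = z * (y * a) * b * a⁻¹ * z⁻¹ * (b⁻¹ * y⁻¹) := by rw [← c2' a]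
        _ = (z * (y * (a * b * a⁻¹))) * z⁻¹ * (b⁻¹ * y⁻¹) := by group
        _ = ((y * (a * b * a⁻¹)) * z) * z⁻¹ * (b⁻¹ * y⁻¹) := by rw [c1' (y * (a * b * a⁻¹))]
        _ = (y * ((a * b * a⁻¹) * b⁻¹)) * y⁻¹ := by group
        _ = (((a * b * a⁻¹) * b⁻¹) * y) * y⁻¹ := by rw [c2' ((a * b * a⁻¹) * b⁻¹)]
        _ = a * b * a⁻¹ * b⁻¹ := by group
    calc ⁅a, b⁆ * e = e * ⁅a, b⁆ * e⁻¹ * e := by rw [h6]
      _ = e * ⁅a, b⁆ := by group
  have h2 : π c ∈ (⁅M.comap π, M.comap π⁆).map π := by
    rw [map_commutator, map_comap_eq_self_of_surjective hπ.surj, hM]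
    exact hc
  obtain ⟨d, hd, hdc⟩ := h2
  have h3 := mem_centralizer_singleton_iff.1 (h1 hd)
  exact (comm_of_lift hπ hdc.symm h3).symm

theorem dec_sup {P M : Subgroup X} (h : ∀ a ∈ P, ∀ b ∈ M, a * b = b * a) :
    ∀ c ∈ P ⊔ M, ∃ p ∈ P, ∃ m ∈ M, c = p * m := by
  intro c hc
  have hr := MonoidHom.noncommCoprod_range P.subtype M.subtype (fun a b => h a a.2 b b.2)
  rw [range_subtype, range_subtype] at hr
  rw [← hr] at hc
  obtain ⟨⟨a, b⟩, hab⟩ := hc
  exact ⟨a, a.2, b, b.2, hab.symm⟩

theorem perf_of_simple {M : Subgroup X} (hM : IsSimpleGroup M) (hn : ¬ (Nat.card M).Prime) [Finite M] : ⁅M, M⁆ = M := by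
  have h1 : commutator M = ⊥ ∨ commutator M = ⊤ := hM.eq_bot_or_eq_top_of_normal _ inferInstance
  rcases h1 with h1 | h1
  · exfalso
    apply hn
    have hc : ∀ a b : M, a * b = b * a := by
      intro a b
      have h2 : ⁅a, b⁆ ∈ commutator M := commutator_mem_commutator (mem_top a) (mem_top b)
      rw [h1, mem_bot] at h2
      exact commutatorElement_eq_one_iff_mul_comm.1 h2
    let cg : CommGroup M := { (inferInstance : Group M) with mul_comm := hc }
    exact IsSimpleGroup.prime_card (α := M)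
  · have h2 := congrArg (Subgroup.map M.subtype) h1
    rw [commutator_def, map_commutator, ← MonoidHom.range_eq_map, M.range_subtype] at h2
    exact h2

end gen

section main

variable {L : Type u} {X : Type v} [Group L] [Group X] [Finite L] {π : L →* X}

/-- **Fusion**, abstract form. -/
theorem fixed_of (hπ : PCE π) (h3 : Nat.card π.ker = 3) {x : X} {P M : Subgroup X} {s : X} (hD : ThreeData x P M s)
    (hcl : ∀ w : X, orderOf w = 3 → IsConj w x) (hcard : Nat.card X = 460815505920) {g : L}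
    (hg : 3 ∣ orderOf (π g)) : ∀ z : L, π z = 1 → IsConj g (g * z) := by
  classical
  have hfX : Finite X := Finite.of_surjective π hπ.surj
  have hp3 : Fact (Nat.Prime 3) := ⟨Nat.prime_three⟩
  have hMperf : ⁅M, M⁆ = M := perf_of_simple hD.simple (by rw [hD.cardL]; norm_num)
  -- (a)
  have hPM : ∀ e c : L, π e ∈ P → π c ∈ M → e * c = c * e := fun e c he hc =>
    comm_perf hπ hMperf (hD.comm _ he) hc
  -- `P` is abelian
  have hPab : ∀ a ∈ P, ∀ b ∈ P, a * b = b * a := by
    intro a ha b hb
    have h1 : IsMulCommutative P := IsPGroup.isMulCommutative_of_card_eq_prime_sq (p := 3) (by rw [hD.cardP]; norm_num)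
    exact congrArg Subtype.val (h1.is_comm.comm ⟨a, ha⟩ ⟨b, hb⟩)
  -- the factorisation of `C(x)`
  have hdec := dec_sup hD.comm
  -- (c) some element over `P` does not commute with the lifts of `x`
  have key : ∃ e : L, π e ∈ P ∧ ∀ y : L, π y = x → e * y ≠ y * e := by
    by_contra hno
    push Not at hno
    have h1 : ∀ e y : L, π e ∈ P → π y = x → e * y = y * e := by
      intro e y he hy
      obtain ⟨y', hy', h⟩ := hno e he
      exact (comm_of_lift hπ (hy.trans hy'.symm) h.symm).symm
    -- a lift of an element of order three commutes with everything over its centralizer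
    have h2 : ∀ y c : L, orderOf (π y) = 3 → π y * π c = π c * π y → y * c = c * y := by
      intro y c hy hyc
      obtain ⟨k', hk'⟩ := isConj_iff.1 (hcl _ hy)
      obtain ⟨k, rfl⟩ := hπ.surj k'
      have h4 : π (k * y * k⁻¹) = x := by rw [map_mul, map_mul, map_inv]; exact hk'
      have h5 : π (k * c * k⁻¹) ∈ P ⊔ M := by
        rw [← hD.cent, mem_centralizer_singleton_iff, ← h4, ← map_mul, ← map_mul]
        have e1 : k * c * k⁻¹ * (k * y * k⁻¹) = k * (c * y) * k⁻¹ := by group
        have e2 : k * y * k⁻¹ * (k * c * k⁻¹) = k * (y * c) * k⁻¹ := by group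
        rw [e1, e2, map_mul, map_mul, map_mul π (k * (y * c)), map_mul π k (y * c), map_mul π y c, hyc,
          map_mul π c y]
      obtain ⟨p', hp', m', hm', h6⟩ := hdec _ h5
      obtain ⟨p, rfl⟩ := hπ.surj p'
      obtain ⟨m, rfl⟩ := hπ.surj m'
      have hxP : π (k * y * k⁻¹) ∈ P := by rw [h4]; exact hD.xP
      have h7 : (k * y * k⁻¹) * (p * m) = (p * m) * (k * y * k⁻¹) := by
        have e1 := h1 p (k * y * k⁻¹) hp' h4
        have e2 := hPM (k * y * k⁻¹) m hxP hm'
        calc (k * y * k⁻¹) * (p * m) = ((k * y * k⁻¹) * p) * m := by group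
          _ = p * ((k * y * k⁻¹) * m) := by rw [← e1]; group
          _ = (p * m) * (k * y * k⁻¹) := by rw [e2]; group
      have h8 : (k * c * k⁻¹) * (k * y * k⁻¹) = (k * y * k⁻¹) * (k * c * k⁻¹) :=
        comm_of_lift hπ (by rw [h6, map_mul]) h7.symm
      have e1 : k * c * k⁻¹ * (k * y * k⁻¹) = k * (c * y) * k⁻¹ := by group
      have e2 : k * y * k⁻¹ * (k * c * k⁻¹) = k * (y * c) * k⁻¹ := by group
      rw [e1, e2] at h8
      exact (mul_left_cancel (mul_right_cancel h8)).symm
    -- everything over `P` commutes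
    have hPP : ∀ a b : L, π a ∈ P → π b ∈ P → a * b = b * a := by
      intro a b ha hb
      by_cases h1' : π a = 1
      · exact hπ.comm h1' b
      · exact h2 a b (orderOf_eq_prime (hD.expP _ ha) h1') (hPab _ ha _ hb)
    -- a Sylow subgroup of `M`
    have hfM : Finite M := inferInstance
    let T : Sylow 3 M := default
    have hT : Nat.card T = 9 := by
      rw [T.card_eq_multiplicity, hD.cardL]
      have : Nat.factorization 360 3 = 2 := by
        rw [show (360 : ℕ) = 3 ^ 2 * 40 by norm_num, Nat.factorization_mul (by norm_num) (by norm_num),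
          Nat.Prime.factorization_pow Nat.prime_three]
        simp [Nat.factorization_eq_zero_of_not_dvd]
      rw [this]
      norm_num
    let S : Subgroup X := (T : Subgroup M).map M.subtype
    have hS : Nat.card S = 9 := by
      rw [Nat.card_congr ((T : Subgroup M).equivMapOfInjective M.subtype M.subtype_injective).symm.toEquiv]
      exact hT
    have hSM : S ≤ M := map_subtype_le _
    have hSab : ∀ a ∈ S, ∀ b ∈ S, a * b = b * a := by
      intro a ha b hb
      have h1 : IsMulCommutative S := IsPGroup.isMulCommutative_of_card_eq_prime_sq (p := 3) (by rw [hS]; norm_num)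
      exact congrArg Subtype.val (h1.is_comm.comm ⟨a, ha⟩ ⟨b, hb⟩)
    have hSS : ∀ a b : L, π a ∈ S → π b ∈ S → a * b = b * a := by
      intro a b ha hb
      have ho : orderOf (⟨π a, ha⟩ : S) ∣ 9 := by rw [← hS]; exact orderOf_dvd_natCard _
      have ho' : orderOf (⟨π a, ha⟩ : S) = orderOf (π a) := Subgroup.orderOf_mk _ _
      have ho2 : orderOf (π a) = 1 ∨ orderOf (π a) = 3 ∨ orderOf (π a) = 9 := by
        rw [ho'] at ho
        have : orderOf (π a) ∣ 3 ^ 2 := ho
        obtain ⟨k, hk, h⟩ := (Nat.dvd_prime_pow Nat.prime_three).1 this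
        rw [h]
        interval_cases k <;> simp
      rcases ho2 with h | h | h
      · exact hπ.comm (orderOf_eq_one_iff.1 h) b
      · exact h2 a b h (hSab _ ha _ hb)
      · -- cyclic case
        have h4 : (zpowers (⟨π a, ha⟩ : S)) = ⊤ := by
          apply eq_top_of_card_eq
          rw [Nat.card_zpowers, ho', h, hS]
        have h5 : (⟨π b, hb⟩ : S) ∈ zpowers (⟨π a, ha⟩ : S) := by rw [h4]; trivial
        obtain ⟨k, hk⟩ := mem_zpowers_iff.1 h5
        have h6 : π b = π (a ^ k) := by
          have := congrArg Subtype.val hk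
          rw [map_zpow]
          exact this.symm
        exact (comm_of_lift hπ h6 ((Commute.refl a).zpow_left k).eq).symm
    -- the Sylow subgroup of `X`
    have hPS := dec_sup (fun a ha b hb => hD.comm a ha b (hSM hb))
    have hcardPS : Nat.card (P ⊔ S : Subgroup X) = 81 := by
      let φ : P × S →* X := MonoidHom.noncommCoprod P.subtype S.subtype (fun a b => hD.comm a a.2 b (hSM b.2))
      have hφ : Function.Injective φ := by
        rw [injective_iff_map_eq_one]
        rintro ⟨a, b⟩ hab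
        have hab' : (a : X) * b = 1 := hab
        have ha : (a : X) = (b : X)⁻¹ := eq_inv_of_mul_eq_one_left hab'
        have hbot : (a : X) ∈ P ⊓ M := mem_inf.2 ⟨a.2, by rw [ha]; exact inv_mem (hSM b.2)⟩
        rw [hD.disj, mem_bot] at hbot
        rw [hbot, one_mul] at hab'
        exact Prod.ext (Subtype.ext hbot) (Subtype.ext hab')
      have hr : φ.range = P ⊔ S := by
        refine (MonoidHom.noncommCoprod_range P.subtype S.subtype (fun a b => hD.comm a a.2 b (hSM b.2))).trans ?_
        rw [range_subtype, range_subtype]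
      rw [← hr, ← Nat.card_congr (MonoidHom.ofInjective hφ).toEquiv, Nat.card_prod, hD.cardP, hS]
    have hidx : ¬ 3 ∣ (P ⊔ S : Subgroup X).index := by
      have h4 := (P ⊔ S : Subgroup X).card_mul_index
      rw [hcardPS, hcard] at h4
      intro h5
      omega
    have h4 := hπ.le_commutator_comap Nat.prime_three (IsPGroup.of_card (n := 1) (by rw [h3, pow_one])) hidx
    have h5 : ⁅(P ⊔ S).comap π, (P ⊔ S).comap π⁆ = ⊥ := by
      rw [commutator_eq_bot_iff_le_centralizer]
      intro a ha
      rw [mem_centralizer_iff]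
      intro b hb
      obtain ⟨p', hp', m', hm', e1⟩ := hPS _ ha
      obtain ⟨q', hq', n', hn', e2⟩ := hPS _ hb
      obtain ⟨p, rfl⟩ := hπ.surj p'
      obtain ⟨m, rfl⟩ := hπ.surj m'
      obtain ⟨q, rfl⟩ := hπ.surj q'
      obtain ⟨n, rfl⟩ := hπ.surj n'
      have c1 : p * q = q * p := hPP p q hp' hq'
      have c2 : p * n = n * p := hPM p n hp' (hSM hn')
      have c3 : q * m = m * q := hPM q m hq' (hSM hm')
      have c4 : m * n = n * m := hSS m n hm' hn'
      have h6 : (p * m) * (q * n) = (q * n) * (p * m) := by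
        have C1 : Commute p q := c1
        have C2 : Commute p n := c2
        have C3 : Commute m q := Commute.symm c3
        have C4 : Commute m n := c4
        exact ((C1.mul_right C2).mul_left (C3.mul_right C4)).eq
      have h7 : a * (q * n) = (q * n) * a := comm_of_lift hπ (by rw [e1, map_mul]) h6
      exact comm_of_lift hπ (by rw [e2, map_mul]) h7.symm
    rw [h5, le_bot_iff] at h4
    rw [h4, card_bot] at h3
    omega
  -- (d)
  obtain ⟨e, heP, he⟩ := key
  set n := orderOf (π g) / 3 with hn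
  have hpos : 0 < orderOf (π g) := orderOf_pos _
  have hord : orderOf (π g ^ n) = 3 := by
    obtain ⟨b, hb⟩ := hg
    have hb0 : b ≠ 0 := by rintro rfl; omega
    have hnb : n = b := by rw [hn, hb]; exact Nat.mul_div_cancel_left b (by norm_num)
    rw [hnb, orderOf_pow' _ hb0, hb, Nat.gcd_eq_right (Dvd.intro_left 3 rfl)]
    exact Nat.mul_div_cancel _ (Nat.pos_of_ne_zero hb0)
  obtain ⟨k', hk'⟩ := isConj_iff.1 (hcl _ hord)
  obtain ⟨k, rfl⟩ := hπ.surj k'
  set g' := k * g * k⁻¹ with hg'
  have hpow : π (g' ^ n) = x := by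
    rw [← hk', hg', conj_pow, map_mul, map_mul, map_inv, map_pow]
  have hcent : π g' ∈ P ⊔ M := by
    rw [← hD.cent, mem_centralizer_singleton_iff, ← hpow, map_pow]
    exact ((Commute.refl (π g')).pow_right n).eq
  obtain ⟨p', hp', m', hm', e1⟩ := hdec _ hcent
  have hcomm : π e * π g' = π g' * π e := by
    rw [e1]
    have C1 : Commute (π e) p' := hPab _ heP _ hp'
    have C2 : Commute (π e) m' := hD.comm _ heP _ hm'
    exact (C1.mul_right C2).eq
  set ζ := e * g' * e⁻¹ * g'⁻¹ with hζ
  have hζ1 : π ζ = 1 := ker_of_comm hcomm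
  have hζc : ∀ w, ζ * w = w * ζ := hπ.comm hζ1
  have hζne : ζ ≠ 1 := by
    intro h
    have h4 : e * g' = g' * e := by
      have : e * g' * e⁻¹ * g'⁻¹ = 1 := h
      calc e * g' = (e * g' * e⁻¹ * g'⁻¹) * (g' * e) := by group
        _ = g' * e := by rw [this, one_mul]
    exact he (g' ^ n) hpow ((show Commute e g' from h4).pow_right n).eq
  -- powers
  have hpow' : ∀ j : ℕ, e ^ j * g' * (e ^ j)⁻¹ = g' * ζ ^ j := by
    intro j
    induction j with
    | zero => simp
    | succ j ih =>
      have h4 : e * g' * e⁻¹ = g' * ζ := by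
        rw [← hζc g', hζ]; group
      have hζj : ∀ w, ζ ^ j * w = w * ζ ^ j := fun w => ((show Commute ζ w from hζc w).pow_left j).eq
      calc e ^ (j + 1) * g' * (e ^ (j + 1))⁻¹ = e * (e ^ j * g' * (e ^ j)⁻¹) * e⁻¹ := by rw [pow_succ']; group
        _ = e * (g' * ζ ^ j) * e⁻¹ := by rw [ih]
        _ = e * g' * (ζ ^ j * e⁻¹) := by group
        _ = (e * g' * e⁻¹) * ζ ^ j := by rw [hζj]; group
        _ = g' * ζ ^ (j + 1) := by rw [h4, pow_succ']; group
  intro z hz
  -- `z` is a power of `ζ`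
  obtain ⟨j, hj⟩ : ∃ j : ℕ, ζ ^ j = z := by
    have hζm : ζ ∈ π.ker := hζ1
    have hzm : z ∈ π.ker := hz
    have h4 : (⟨z, hzm⟩ : π.ker) ∈ zpowers (⟨ζ, hζm⟩ : π.ker) :=
      mem_zpowers_of_prime_card (p := 3) h3 (fun h => hζne (congrArg Subtype.val h))
    obtain ⟨j, hj⟩ := (isOfFinOrder_of_finite _).mem_powers_iff_mem_zpowers.2 h4
    exact ⟨j, congrArg Subtype.val hj⟩
  rw [isConj_iff]
  refine ⟨k⁻¹ * e ^ j * k, ?_⟩
  have h4 := hpow' j
  rw [hj] at h4
  have h5 : k⁻¹ * e ^ j * k * g * (k⁻¹ * e ^ j * k)⁻¹ = k⁻¹ * (e ^ j * g' * (e ^ j)⁻¹) * k := by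
    rw [hg']; group
  rw [h5, h4, hg']
  calc k⁻¹ * (k * g * k⁻¹ * z) * k = g * k⁻¹ * (z * k) := by group
    _ = g * k⁻¹ * (k * z) := by rw [hπ.comm hz k]
    _ = g * z := by group

/-- **Fusion in 3.ON.** -/
theorem fixed {π : L →* Spor.ON} (hπ : PCE π) (h3 : Nat.card π.ker = 3) {g : L} (hg : 3 ∣ orderOf (π g)) :
    ∀ z : L, π z = 1 → IsConj g (g * z) := by
  have hfin := Cfsg.Agent.KFacts.ON.Cent.finite_ON
  obtain ⟨x, P, M, s, hD⟩ := Cfsg.Agent.H210.On7.exists_threeData
  refine fixed_of hπ h3 hD (fun w hw => ?_) Cfsg.Agent.KFacts.ON.Cent.hON.2 hg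
  obtain ⟨v, hv, hvw⟩ := ONThree.exists_inv Cfsg.Agent.KFacts.ON.Cent.hON w hw
  exact (hD.conj w hw ⟨v, hv, hvw⟩).symm

end main

end Cfsg.Agent.H253.QON
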